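import Cfsg.Agent.H607.TW.Defs2
import Cfsg.Agent.S0023
import Cfsg.Agent.S0024

/-!
# S3694, T17: `O_r(A) ∩ N ≠ 1` (helper966)

If `O_r(A) ∩ N = 1` then `A ∩ N = 1` and `C_N(P) = 1` for `P = O_r(A)`, so `r` does not divide `|N|`; the unique
`P`-invariant Sylow `s`-subgroup of `N` is normalised by `A`, so it is `N`: contradiction.
-/

set_option autoImplicit false

namespace Cfsg.Agent.H966.TW

open Subgroup Cfsg.Agent.H607.TW
open scoped Pointwise

universe u

variable {G : Type u} [Group G] [Finite G] {N A : Subgroup G} {r : ℕ}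

/-- T17 : `O_r(A) ∩ N ≠ 1` (coprime action; `N` simple nonabelian) -/
theorem OO_inf_ne_bot (h : Loc N A r) (hA : A ≠ ⊥) : OO r A ⊓ N ≠ ⊥ := by
  intro h0
  have hr := h.fact
  have hN := h.normal
  have hs := h.simple
  set P := OO r A with hP
  have hP1 : P ≠ ⊥ := h.OO_ne_bot hA
  have hAP : A ≤ normalizer (P : Set G) := le_normalizer_OO r A
  have hPN : ∀ x ∈ P, x ∈ N → x = 1 := by
    intro x hx hxN
    have : x ∈ P ⊓ N := ⟨hx, hxN⟩
    rwa [h0, mem_bot] at this
  -- elements of `A ∩ N` centralise `P`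
  have hcomm : ∀ x ∈ A, x ∈ N → ∀ y ∈ P, x * y = y * x := by
    intro x hxA hxN y hy
    have h1 : x * y * x⁻¹ * y⁻¹ ∈ P := P.mul_mem (conj_mem_of_norm hAP hxA hy) (P.inv_mem hy)
    have h2 : x * y * x⁻¹ * y⁻¹ ∈ N := by
      have : x * (y * x⁻¹ * y⁻¹) ∈ N := N.mul_mem hxN (hN.conj_mem _ (N.inv_mem hxN) y)
      simpa [mul_assoc] using this
    have h3 := hPN _ h1 h2
    rw [mul_inv_eq_one, mul_inv_eq_iff_eq_mul] at h3
    exact h3
  have hAN : A ⊓ N = ⊥ := by
    rw [eq_bot_iff]
    rintro x ⟨hxA, hxN⟩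
    rw [mem_bot]
    exact hPN x (h.mem_OO_of_comm hxA (hcomm x hxA hxN)) hxN
  -- `C_N(P) = 1`
  have hC : ∀ x ∈ N, x ∈ centralizer (P : Set G) → x = 1 := by
    have hn : A ≤ normalizer ((N ⊓ centralizer (P : Set G) : Subgroup G) : Set G) := by
      apply le_normalizer_of_conj
      rintro g hg x ⟨hx1, hx2⟩
      refine ⟨hN.conj_mem x hx1 g, ?_⟩
      have hx2' : x ∈ centralizer (P : Set G) := hx2
      rw [mem_centralizer_iff] at hx2'
      change g * x * g⁻¹ ∈ centralizer (P : Set G)
      rw [mem_centralizer_iff]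
      intro y hy
      have h3 := hx2' (g⁻¹ * y * g) (by
        have := conj_mem_of_norm hAP (A.inv_mem hg) hy
        simpa using this)
      calc y * (g * x * g⁻¹) = g * ((g⁻¹ * y * g) * x) * g⁻¹ := by group
        _ = g * (x * (g⁻¹ * y * g)) * g⁻¹ := by rw [h3]
        _ = g * x * g⁻¹ * y := by group
    have hne : N ⊓ centralizer (P : Set G) ≠ N := by
      intro h1
      apply hP1
      rw [eq_bot_iff, ← h.cent]
      intro y hy
      rw [mem_centralizer_iff]
      intro x hx
      rw [SetLike.mem_coe, ← h1] at hx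
      exact (mem_centralizer_iff.1 hx.2 y hy).symm
    have h2 := h.le_of_norm' inf_le_left hne hn
    intro x hxN hxC
    have h3 : x ∈ A ⊓ N := ⟨h2 ⟨hxN, hxC⟩, hxN⟩
    rwa [hAN, mem_bot] at h3
  have hPp : IsPGroup r P := isPGroup_OO r A
  -- `r` does not divide `|N|`
  have hcop : (Nat.card P).Coprime (Nat.card N) := by
    let _ : MulAction P N := MulAction.compHom N ((MulAut.conjNormal : G →* MulAut N).comp P.subtype)
    have hsm : ∀ (p : P) (n : N), ((p • n : N) : G) = p * n * (p : G)⁻¹ := fun p n => rfl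
    have h1 := hPp.card_modEq_card_fixedPoints N
    have h2 : Nat.card (MulAction.fixedPoints P N) = 1 := by
      rw [Nat.card_eq_one_iff_unique]
      refine ⟨⟨fun a b => ?_⟩, ⟨1, fun p => ?_⟩⟩
      · have key : ∀ a : MulAction.fixedPoints P N, (a : N) = 1 := by
          intro a
          apply Subtype.ext
          apply hC _ (a : N).2
          rw [mem_centralizer_iff]
          intro y hy
          have h3 := congrArg (Subtype.val : N → G) (a.2 ⟨y, hy⟩)
          rw [hsm] at h3
          exact mul_inv_eq_iff_eq_mul.1 h3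
        exact Subtype.ext ((key a).trans (key b).symm)
      · apply Subtype.ext
        rw [hsm]
        simp
    rw [h2] at h1
    obtain ⟨k, hk⟩ := IsPGroup.iff_card.1 hPp
    rw [hk]
    apply Nat.Coprime.pow_left
    rw [Nat.Prime.coprime_iff_not_dvd h.prime]
    intro h3
    have h4 : r ∣ 1 := (Nat.modEq_zero_iff_dvd.1 ((h1.symm).trans (Nat.modEq_zero_iff_dvd.2 h3)))
    exact h.prime.one_lt.ne' (Nat.dvd_one.1 h4)
  have hsol : Group.IsSolvable P ∨ Group.IsSolvable N := by
    left
    have : Group.IsNilpotent P := hPp.isNilpotent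
    infer_instance
  have hPn : P ≤ normalizer (N : Set G) := le_normalizer_of_normal N hN
  -- a Sylow subgroup
  have hN1 : Nat.card N ≠ 1 := by
    intro h1
    exact h.N_ne_bot (card_eq_one.1 h1)
  set s := (Nat.card N).minFac with hsd
  have hsp : Fact s.Prime := ⟨Nat.minFac_prime hN1⟩
  obtain ⟨T, hT⟩ := Cfsg.Agent.S0023.result P N hPn hcop hsol s
  have hTA : A ≤ normalizer (((T : Subgroup N).map N.subtype : Subgroup G) : Set G) := by
    have key : ∀ a ∈ A, (MulAut.conjNormal a : MulAut N) • T = T := by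
      intro a ha
      have h1 : P ≤ normalizer (((((MulAut.conjNormal a : MulAut N) • T : Sylow s N) : Subgroup N).map N.subtype :
          Subgroup G) : Set G) := by
        apply le_normalizer_of_conj
        rintro p hp _ ⟨x, hx, rfl⟩
        rw [SetLike.mem_coe, Sylow.pointwise_smul_def, Subgroup.mem_smul_pointwise_iff_exists] at hx
        obtain ⟨t, ht, rfl⟩ := hx
        have h2 : a⁻¹ * p * a ∈ P := by
          have := conj_mem_of_norm hAP (A.inv_mem ha) hp
          simpa using this
        have h3 : (a⁻¹ * p * a) * (t : G) * (a⁻¹ * p * a)⁻¹ ∈ (T : Subgroup N).map N.subtype :=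
          conj_mem_of_norm hT h2 ⟨t, ht, rfl⟩
        obtain ⟨t', ht', he⟩ := h3
        refine ⟨(MulAut.conjNormal a : MulAut N) • t', ?_, ?_⟩
        · rw [SetLike.mem_coe, Sylow.pointwise_smul_def]
          exact Subgroup.smul_mem_pointwise_smul _ _ _ ht'
        · have e1 : (((MulAut.conjNormal a : MulAut N) • t' : N) : G) = a * t' * a⁻¹ := rfl
          have e2 : (((MulAut.conjNormal a : MulAut N) • t : N) : G) = a * t * a⁻¹ := rfl
          have he' : (t' : G) = (a⁻¹ * p * a) * (t : G) * (a⁻¹ * p * a)⁻¹ := he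
          change (((MulAut.conjNormal a : MulAut N) • t' : N) : G) =
            p * (((MulAut.conjNormal a : MulAut N) • t : N) : G) * p⁻¹
          rw [e1, e2, he']
          group
      obtain ⟨c, hc, hcT⟩ := Cfsg.Agent.S0024.result P N hPn hcop hsol s T
        ((MulAut.conjNormal a : MulAut N) • T) hT h1
      have hc1 : c = 1 := Subtype.ext (hC _ c.2 hc)
      rw [hc1, map_one, one_smul] at hcT
      exact hcT.symm
    apply le_normalizer_of_conj
    rintro a ha _ ⟨x, hx, rfl⟩
    refine ⟨(MulAut.conjNormal a : MulAut N) • x, ?_, rfl⟩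
    have h1 := Subgroup.smul_mem_pointwise_smul x (MulAut.conjNormal a : MulAut N) (T : Subgroup N) hx
    rw [← Sylow.pointwise_smul_def, key a ha] at h1
    exact h1
  have hTN : (T : Subgroup N).map N.subtype = N := by
    by_contra hne
    have h1 := h.le_of_norm' (map_subtype_le _) hne hTA
    have h2 : (T : Subgroup N).map N.subtype ≤ A ⊓ N := le_inf h1 (map_subtype_le _)
    rw [hAN, le_bot_iff, Subgroup.map_eq_bot_iff_of_injective _ N.subtype_injective] at h2
    have h3 : s ∣ Nat.card (T : Subgroup N) := T.dvd_card_of_dvd_card (Nat.minFac_dvd _)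
    rw [h2, card_bot] at h3
    exact hsp.out.one_lt.ne' (Nat.dvd_one.1 h3)
  have hTtop : (T : Subgroup N) = ⊤ := by
    rw [eq_top_iff]
    intro x _
    have h1 : (x : G) ∈ (T : Subgroup N).map N.subtype := by rw [hTN]; exact x.2
    obtain ⟨y, hy, he⟩ := h1
    have : y = x := Subtype.ext he
    rwa [← this]
  have hNp : IsPGroup s N := by
    have h1 : IsPGroup s (T : Subgroup N) := T.isPGroup'
    rw [hTtop] at h1
    exact h1.of_equiv topEquiv
  have hnt := hs.toNontrivial
  have hcen : Nontrivial (center N) := hNp.center_nontrivial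
  rcases hs.eq_bot_or_eq_top_of_normal (center N) inferInstance with h1 | h1
  · rw [h1] at hcen
    exact not_nontrivial _ hcen
  · apply h.nonab
    constructor
    constructor
    intro x y
    have hy : y ∈ center N := h1 ▸ mem_top y
    exact mem_center_iff.1 hy x

end Cfsg.Agent.H966.TW
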